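import Cfsg.Agent.Lib.McLUnique.Cert.Main.Table

/-! Generated: some relators act trivially on the points. -/
set_option autoImplicit false
set_option maxRecDepth 100000
set_option Elab.async false

namespace CfsgLib.McLUnique.Cert.Main

open CfsgLib.Presented

theorem relChunk11_ok : rep.relsOK relChunk11 = true := by decide +kernel

end CfsgLib.McLUnique.Cert.Main
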