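import Cfsg.Agent.Lib.McLUnique.Cert.Main.States
import Cfsg.Agent.Lib.McLUnique.Cert.Run

/-! Generated: a piece of the closure. -/
set_option autoImplicit false
set_option maxRecDepth 100000
set_option Elab.async false

namespace CfsgLib.McLUnique.Cert.Main

open CfsgLib.Presented

theorem run1 : runTo cert steps1 (state0) state1 = true := by decide +kernel

end CfsgLib.McLUnique.Cert.Main
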