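import Cfsg.Agent.Lib.McLUnique.Cert.Main.State0
import Cfsg.Agent.Lib.McLUnique.Cert.Main.State1
import Cfsg.Agent.Lib.McLUnique.Cert.Main.State2
import Cfsg.Agent.Lib.McLUnique.Cert.Main.State3
import Cfsg.Agent.Lib.McLUnique.Cert.Main.State4
import Cfsg.Agent.Lib.McLUnique.Cert.Main.State5
import Cfsg.Agent.Lib.McLUnique.Cert.Main.State6
import Cfsg.Agent.Lib.McLUnique.Cert.Main.State7
import Cfsg.Agent.Lib.McLUnique.Cert.Main.State8
import Cfsg.Agent.Lib.McLUnique.Cert.Main.State9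
import Cfsg.Agent.Lib.McLUnique.Cert.Main.State10
import Cfsg.Agent.Lib.McLUnique.Cert.Main.State11
import Cfsg.Agent.Lib.McLUnique.Cert.Main.State12
import Cfsg.Agent.Lib.McLUnique.Cert.Main.State13
import Cfsg.Agent.Lib.McLUnique.Cert.Main.State14
import Cfsg.Agent.Lib.McLUnique.Cert.Main.State15
import Cfsg.Agent.Lib.McLUnique.Cert.Main.State16
import Cfsg.Agent.Lib.McLUnique.Cert.Main.State17
import Cfsg.Agent.Lib.McLUnique.Cert.Main.State18
import Cfsg.Agent.Lib.McLUnique.Cert.Main.State19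
import Cfsg.Agent.Lib.McLUnique.Cert.Main.State20
import Cfsg.Agent.Lib.McLUnique.Cert.Main.State21
import Cfsg.Agent.Lib.McLUnique.Cert.Main.State22
import Cfsg.Agent.Lib.McLUnique.Cert.Main.State23
import Cfsg.Agent.Lib.McLUnique.Cert.Main.Rels0
import Cfsg.Agent.Lib.McLUnique.Cert.Main.Rels1
import Cfsg.Agent.Lib.McLUnique.Cert.Main.Rels2
import Cfsg.Agent.Lib.McLUnique.Cert.Main.Rels3
import Cfsg.Agent.Lib.McLUnique.Cert.Main.Rels4
import Cfsg.Agent.Lib.McLUnique.Cert.Main.Rels5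
import Cfsg.Agent.Lib.McLUnique.Cert.Main.Rels6
import Cfsg.Agent.Lib.McLUnique.Cert.Main.Rels7
import Cfsg.Agent.Lib.McLUnique.Cert.Main.Rels8
import Cfsg.Agent.Lib.McLUnique.Cert.Main.Rels9
import Cfsg.Agent.Lib.McLUnique.Cert.Main.Rels10
import Cfsg.Agent.Lib.McLUnique.Cert.Main.Rels11
import Cfsg.Agent.Lib.McLUnique.Cert.Main.Rels12
import Cfsg.Agent.Lib.McLUnique.Cert.Main.Valid
import Cfsg.Agent.Lib.McLUnique.Cert.Run

/-! Generated: the certificate is correct. -/
set_option autoImplicit false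
set_option maxRecDepth 100000
set_option Elab.async false

namespace CfsgLib.McLUnique.Cert.Main

open CfsgLib.Presented

theorem rels_ok : rep.relsOK relWords = true :=
  relsOK_append relChunk0_ok (relsOK_append relChunk1_ok (relsOK_append relChunk2_ok (relsOK_append relChunk3_ok (relsOK_append relChunk4_ok (relsOK_append relChunk5_ok (relsOK_append relChunk6_ok (relsOK_append relChunk7_ok (relsOK_append relChunk8_ok (relsOK_append relChunk9_ok (relsOK_append relChunk10_ok (relsOK_append relChunk11_ok (relChunk12_ok))))))))))))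

theorem cert_ok : cert.ok = true := by
  have hv : cert.valid = true := by
    have hN : Nat.blt 0 cert.R.N = true := by decide +kernel
    simp only [VCert.valid, Bool.and_eq_true]
    exact ⟨⟨⟨⟨⟨rep_valid, hN⟩, rels_ok⟩, subs_valid⟩, tree_valid⟩, cover_valid⟩
  rw [VCert.ok, hv, Bool.true_and, VCert.strictL_eq]
  show cert.runAll (steps0 ++ (steps1 ++ (steps2 ++ (steps3 ++ (steps4 ++ (steps5 ++ (steps6 ++ (steps7 ++ (steps8 ++ (steps9 ++ (steps10 ++ (steps11 ++ (steps12 ++ (steps13 ++ (steps14 ++ (steps15 ++ (steps16 ++ (steps17 ++ (steps18 ++ (steps19 ++ (steps20 ++ (steps21 ++ (steps22 ++ (steps23)))))))))))))))))))))))) cert.init = true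
  rw [runAll_of_runTo _ _ _ run0, runAll_of_runTo _ _ _ run1, runAll_of_runTo _ _ _ run2, runAll_of_runTo _ _ _ run3, runAll_of_runTo _ _ _ run4, runAll_of_runTo _ _ _ run5, runAll_of_runTo _ _ _ run6, runAll_of_runTo _ _ _ run7, runAll_of_runTo _ _ _ run8, runAll_of_runTo _ _ _ run9, runAll_of_runTo _ _ _ run10, runAll_of_runTo _ _ _ run11, runAll_of_runTo _ _ _ run12, runAll_of_runTo _ _ _ run13, runAll_of_runTo _ _ _ run14, runAll_of_runTo _ _ _ run15, runAll_of_runTo _ _ _ run16, runAll_of_runTo _ _ _ run17, runAll_of_runTo _ _ _ run18, runAll_of_runTo _ _ _ run19, runAll_of_runTo _ _ _ run20, runAll_of_runTo _ _ _ run21, runAll_of_runTo _ _ _ run22]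
  exact run23

end CfsgLib.McLUnique.Cert.Main
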